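import Groth.Agent.S4994
import Groth.Agent.Lib.Descend.Nhd
import Groth.Agent.Lib.Descend.BaseChangeAt

/-!
Descent of differential smoothness along cofiltered limits.
-/

universe u

set_option backward.isDefEq.respectTransparency false
set_option backward.defeqAttrib.useBackward true
set_option linter.style.haveILetI false
set_option maxHeartbeats 400000

open CategoryTheory CategoryTheory.Limits AlgebraicGeometry

namespace Groth.Agent.DiagDesc5

open Descend

variable {X₀ S₀ : Scheme.{u}} (f₀ : X₀ ⟶ S₀)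

/-- The second projection of `X₀ ×_{S₀} X₀` pulled back along `h`, with the section over `h`. -/
noncomputable def sec {Z : Scheme.{u}} (h : Z ⟶ X₀) : Z ⟶ pullback (pullback.snd f₀ f₀) h :=
  pullback.lift (h ≫ pullback.diagonal f₀) (𝟙 Z)
    (by rw [Category.assoc, pullback.diagonal_snd, Category.comp_id, Category.id_comp])

@[reassoc (attr := simp)]
theorem sec_fst {Z : Scheme.{u}} (h : Z ⟶ X₀) :
    sec f₀ h ≫ pullback.fst (pullback.snd f₀ f₀) h = h ≫ pullback.diagonal f₀ := pullback.lift_fst _ _ _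

@[reassoc (attr := simp)]
theorem sec_snd {Z : Scheme.{u}} (h : Z ⟶ X₀) :
    sec f₀ h ≫ pullback.snd (pullback.snd f₀ f₀) h = 𝟙 Z := pullback.lift_snd _ _ _

variable [LocallyOfFinitePresentation f₀]

/-- Smoothness along the section. -/
def Good {Z : Scheme.{u}} (h : Z ⟶ X₀) : Prop :=
  haveI : LocallyOfFinitePresentation (pullback.snd f₀ f₀) := inferInstance
  ∀ z : Z, (sec f₀ h) z ∈ (pullback.snd (pullback.snd f₀ f₀) h).smoothLocus

theorem good_comp {Z Z' : Scheme.{u}} (a : Z' ⟶ Z) (h : Z ⟶ X₀) (hG : Good f₀ h) : Good f₀ (a ≫ h) := by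
  intro z
  let g₀ := pullback.snd f₀ f₀
  let U := (pullback.snd g₀ h).smoothLocus
  let n : pullback g₀ (a ≫ h) ⟶ pullback g₀ h :=
    pullback.lift (pullback.fst g₀ (a ≫ h)) (pullback.snd g₀ (a ≫ h) ≫ a)
      (by rw [Category.assoc]; exact pullback.condition)
  have hn : IsPullback n (pullback.snd g₀ (a ≫ h)) (pullback.snd g₀ h) a := by
    refine IsPullback.of_right ?_ (pullback.lift_snd _ _ _) (IsPullback.of_hasPullback g₀ h)
    rw [show n ≫ pullback.fst g₀ h = pullback.fst g₀ (a ≫ h) from pullback.lift_fst _ _ _]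
    exact IsPullback.of_hasPullback g₀ (a ≫ h)
  haveI : Smooth (U.ι ≫ pullback.snd g₀ h) := by
    rw [← Scheme.Hom.smoothLocus_eq_top_iff, ← Scheme.Hom.preimage_smoothLocus_eq, Scheme.Opens.ι_preimage_self]
  have hsq := (isPullback_morphismRestrict n U).paste_vert hn
  have hs : Smooth ((n ⁻¹ᵁ U).ι ≫ pullback.snd g₀ (a ≫ h)) :=
    MorphismProperty.of_isPullback hsq ‹_›
  refine (smooth_nhd_iff_mem_smoothLocus _ _).1 ⟨n ⁻¹ᵁ U, ?_, hs⟩
  have h1 : sec f₀ (a ≫ h) ≫ n = a ≫ sec f₀ h := by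
    apply pullback.hom_ext <;> simp [n, g₀]
  show (sec f₀ (a ≫ h) ≫ n) z ∈ U
  rw [h1]
  exact hG (a z)

/-- Differential smoothness of a base change of `f₀`. -/
theorem quasi_diagonal_iff_good {Z T : Scheme.{u}} (p : Z ⟶ X₀) (r : Z ⟶ T) (q : T ⟶ S₀)
    (hP : IsPullback p r f₀ q) :
    RegImm.IsRegularImmersion RegImm.Kind.quasi (pullback.diagonal r) ↔ Good f₀ p := by
  haveI : LocallyOfFinitePresentation r := MorphismProperty.of_isPullback hP ‹_›
  rw [Groth.Agent.S4994.result r]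
  let g₀ := pullback.snd f₀ f₀
  let m : pullback r r ⟶ pullback f₀ f₀ := pullback.map r r f₀ f₀ p p q hP.w.symm hP.w.symm
  have hm : m ≫ g₀ = pullback.snd r r ≫ p := pullback.lift_snd _ _ _
  have hsq : IsPullback m (pullback.snd r r) g₀ p := by
    refine IsPullback.of_right ?_ hm (IsPullback.of_hasPullback f₀ f₀)
    rw [show m ≫ pullback.fst f₀ f₀ = pullback.fst r r ≫ p from pullback.lift_fst _ _ _, hP.w]
    exact (IsPullback.of_hasPullback r r).paste_horiz hP
  let e := hsq.isoPullback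
  have he : pullback.diagonal r ≫ e.hom = sec f₀ p := by
    apply pullback.hom_ext
    · rw [Category.assoc, hsq.isoPullback_hom_fst, sec_fst]
      apply pullback.hom_ext <;> simp [m]
    · rw [Category.assoc, hsq.isoPullback_hom_snd, sec_snd, pullback.diagonal_snd]
  have key := Scheme.Hom.preimage_smoothLocus_eq e.hom (pullback.snd g₀ p)
  refine forall_congr' fun z => ?_
  have h2 : (pullback.diagonal r) z ∈ (e.hom ≫ pullback.snd g₀ p).smoothLocus ↔
      (sec f₀ p) z ∈ (pullback.snd g₀ p).smoothLocus := by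
    rw [← key, ← he, Scheme.Hom.comp_apply]
    rfl
  have hcongr : ∀ {A B : Scheme.{u}} (a b : A ⟶ B) [LocallyOfFinitePresentation a]
      [LocallyOfFinitePresentation b], a = b → a.smoothLocus = b.smoothLocus := by
    rintro A B a b _ _ rfl
    rfl
  rw [← h2, hcongr _ _ hsq.isoPullback_hom_snd.symm]

variable {J : Type u} [SmallCategory J] [IsCofiltered J] {Z : J ⥤ Scheme.{u}}
  {h : Z ⟶ (Functor.const J).obj X₀} [∀ k, IsAffineHom (h.app k)] {c : Cone Z} {p : c.pt ⟶ X₀}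

/-- Smoothness along the section descends to a stage. -/
theorem exists_good [CompactSpace X₀] (hc : IsLimit c) (hq : ∀ k, c.π.app k ≫ h.app k = p) (hG : Good f₀ p) :
    ∃ k, Good f₀ (h.app k) := by
  let g₀ := pullback.snd f₀ f₀
  haveI := fun k => compactSpace_obj Z h k
  haveI : ∀ {i j : J} (a : i ⟶ j), IsAffineHom (Z.map a) := fun a => isAffineHom_map Z h a
  let A := pbDiagram Z h g₀
  let cA := pbCone Z h g₀ c hq (IsPullback.of_hasPullback g₀ p)
  have hcA : IsLimit cA := pbIsLimit Z h g₀ c hq (IsPullback.of_hasPullback g₀ p) hc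
  haveI : ∀ {i j : J} (a : i ⟶ j), IsAffineHom (A.map a) := fun a => pb_isAffineHom_map Z h g₀ a
  haveI : CompactSpace c.pt := by
    obtain ⟨j⟩ := IsCofiltered.nonempty (C := J)
    haveI : IsAffineHom p := by
      rw [← hq j]
      haveI : IsAffineHom (c.π.app j) := isAffineHom_π_app Z c hc j
      infer_instance
    exact QuasiCompact.compactSpace_of_compactSpace p
  let U := (pullback.snd g₀ p).smoothLocus
  -- a quasi-compact neighbourhood of the section inside the smooth locus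
  have hK : IsCompact (Set.range (sec f₀ p)) := isCompact_range (sec f₀ p).continuous
  obtain ⟨W', hW'c, hW'U, hW'⟩ : ∃ W' : (pullback g₀ p).Opens, IsCompact (W' : Set ↥(pullback g₀ p)) ∧ W' ≤ U ∧
      Set.range (sec f₀ p) ⊆ W' := by
    choose V hVa hVm hVU using fun z => exists_isAffineOpen_mem_and_subset (hG z)
    obtain ⟨s, hs⟩ := hK.elim_finite_subcover (fun z => (V z : Set ↥(pullback g₀ p))) (fun z => (V z).2)
      (by rintro _ ⟨z, rfl⟩; exact Set.mem_iUnion.2 ⟨z, hVm z⟩)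
    refine ⟨⨆ z ∈ s, V z, ?_, iSup₂_le fun z _ => hVU z, ?_⟩
    · simp only [TopologicalSpace.Opens.coe_iSup]
      exact s.finite_toSet.isCompact_biUnion fun z _ => (hVa z).isCompact
    · simpa only [TopologicalSpace.Opens.coe_iSup] using hs
  obtain ⟨k₀, W, hW, hWeq⟩ := exists_preimage_eq A cA hcA W' hW'c
  haveI : CompactSpace W.toScheme := isCompact_iff_compactSpace.mp hW
  haveI : LocallyOfFinitePresentation (pullback.snd g₀ (h.app k₀)) :=
    MorphismProperty.pullback_snd _ _ (inferInstanceAs (LocallyOfFinitePresentation g₀))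
  have hsq : IsPullback (cA.π.app k₀ ∣_ W) ((cA.π.app k₀ ⁻¹ᵁ W).ι ≫ pullback.snd g₀ p)
      (W.ι ≫ pullback.snd g₀ (h.app k₀)) (c.π.app k₀) :=
    (isPullback_morphismRestrict _ W).paste_vert (pbCone_isPullback Z h g₀ c hq (IsPullback.of_hasPullback g₀ p) k₀)
  haveI : Smooth ((cA.π.app k₀ ⁻¹ᵁ W).ι ≫ pullback.snd g₀ p) := by
    haveI : Smooth (U.ι ≫ pullback.snd g₀ p) := by
      rw [← Scheme.Hom.smoothLocus_eq_top_iff, ← Scheme.Hom.preimage_smoothLocus_eq, Scheme.Opens.ι_preimage_self]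
    rw [← Scheme.homOfLE_ι _ (show cA.π.app k₀ ⁻¹ᵁ W ≤ U from hWeq.le.trans hW'U), Category.assoc]
    infer_instance
  haveI : ∀ k, IsAffineHom ((overT Z k₀).app k) := fun k => isAffineHom_map Z h k.hom
  obtain ⟨k, hk⟩ := exists_smooth (t := overT Z k₀) (f := W.ι ≫ pullback.snd g₀ (h.app k₀))
    (c := c.whisker (Over.forget k₀)) (q := c.π.app k₀)
    ((Functor.Initial.isLimitWhiskerEquiv (Over.forget k₀) c).symm hc) (fun k => c.w k.hom) hsq
  have hsq2 : IsPullback (A.map k.hom ∣_ W) ((A.map k.hom ⁻¹ᵁ W).ι ≫ pullback.snd g₀ (h.app k.left))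
      (W.ι ≫ pullback.snd g₀ (h.app k₀)) (Z.map k.hom) :=
    (isPullback_morphismRestrict _ W).paste_vert (pbMap_isPullback Z h g₀ k.hom)
  have hsk : Smooth ((A.map k.hom ⁻¹ᵁ W).ι ≫ pullback.snd g₀ (h.app k.left)) := by
    rw [← hsq2.isoPullback_hom_snd, MorphismProperty.cancel_left_of_respectsIso @Smooth]
    exact hk
  -- the section lands in it at a later stage
  let D : (Z.obj k.left).Opens := sec f₀ (h.app k.left) ⁻¹ᵁ (A.map k.hom ⁻¹ᵁ W)
  have hcomm : c.π.app k.left ≫ sec f₀ (h.app k.left) = sec f₀ p ≫ cA.π.app k.left := by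
    apply pullback.hom_ext
    · simp [cA, g₀, reassoc_of% (hq k.left)]
    · simp [cA, g₀]
  have hD : c.π.app k.left ⁻¹ᵁ D = ⊤ := by
    refine top_le_iff.1 fun z _ => ?_
    show (c.π.app k.left ≫ sec f₀ (h.app k.left) ≫ A.map k.hom) z ∈ W
    rw [← Category.assoc, hcomm, Category.assoc, cA.w]
    have : (sec f₀ p) z ∈ cA.π.app k₀ ⁻¹ᵁ W := hWeq.ge (hW' ⟨z, rfl⟩)
    exact this
  obtain ⟨l, a, hl⟩ := exists_map_eq_top Z c hc D hD
  refine ⟨l, fun z => ?_⟩
  have hsql : IsPullback (A.map a ∣_ (A.map k.hom ⁻¹ᵁ W))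
      ((A.map a ⁻¹ᵁ (A.map k.hom ⁻¹ᵁ W)).ι ≫ pullback.snd g₀ (h.app l))
      ((A.map k.hom ⁻¹ᵁ W).ι ≫ pullback.snd g₀ (h.app k.left)) (Z.map a) :=
    (isPullback_morphismRestrict _ _).paste_vert (pbMap_isPullback Z h g₀ a)
  refine (smooth_nhd_iff_mem_smoothLocus _ _).1
    ⟨A.map a ⁻¹ᵁ (A.map k.hom ⁻¹ᵁ W), ?_, MorphismProperty.of_isPullback hsql hsk⟩
  have h1 : sec f₀ (h.app l) ≫ A.map a = Z.map a ≫ sec f₀ (h.app k.left) := by
    apply pullback.hom_ext
    · simp [A, g₀, pbDiagram, reassoc_of% (t_nat Z h a)]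
    · simp [A, g₀, pbDiagram]
  show (sec f₀ (h.app l) ≫ A.map a) z ∈ A.map k.hom ⁻¹ᵁ W
  rw [h1]
  exact hl.ge (Set.mem_univ z)

end Groth.Agent.DiagDesc5
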